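import Groth.Agent.Et18.FiniteEtaleCard
import Groth.Agent.FEtSect.Basic
import Mathlib.AlgebraicGeometry.Morphisms.FlatRank

/-!
# Splitting a finite étale morphism of constant degree
-/

set_option autoImplicit false
set_option linter.style.haveILetI false
set_option backward.isDefEq.respectTransparency.types false

universe u

open CategoryTheory CategoryTheory.Limits AlgebraicGeometry Opposite TopologicalSpace

namespace Groth.Agent.Split8

variable {X Y S T : Scheme.{u}}

/-- The rank is determined by the numbers of lifts of geometric points. -/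
theorem finrank_eq_of_card (f : X ⟶ S) [IsFinite f] [Etale f] {n : ℕ}
    (h : ∀ (Ω : Type u) [Field Ω] [IsSepClosed Ω] (η : Spec (CommRingCat.of Ω) ⟶ S),
      Nat.card (Et18.PointLift f η) = n) (s : S) : f.finrank s = n := by
  obtain ⟨Ω, _, _, η, hη⟩ := FEtSect.exists_geomPoint s
  rw [← hη default, ← (Et18.card_pointLift f η).2.1]
  exact h Ω η

/-- Ranks multiply along composition. -/
theorem finrank_comp_of_const (a : X ⟶ Y) (b : Y ⟶ S) [IsFinite a] [Etale a] [IsFinite b] [Etale b]
    {m n : ℕ} (ha : ∀ y, a.finrank y = m) (hb : ∀ s, b.finrank s = n) (s : S) :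
    (a ≫ b).finrank s = n * m := by
  refine finrank_eq_of_card (a ≫ b) (fun Ω _ _ η => ?_) s
  let e : Et18.PointLift (a ≫ b) η ≃ Σ v : Et18.PointLift b η, Et18.PointLift a v.1 :=
    { toFun := fun w => ⟨⟨w.1 ≫ a, (Category.assoc _ _ _).trans w.2⟩, ⟨w.1, rfl⟩⟩
      invFun := fun p => ⟨p.2.1, by rw [← Category.assoc, p.2.2]; exact p.1.2⟩
      left_inv := fun w => rfl
      right_inv := fun p => by
        rcases p with ⟨⟨v, hv⟩, ⟨w, hw⟩⟩
        change w ≫ a = v at hw
        subst hw
        rfl }
  obtain ⟨hfb, hcb, -⟩ := Et18.card_pointLift b η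
  haveI := hfb
  haveI : ∀ v : Et18.PointLift b η, Finite (Et18.PointLift a v.1) := fun v =>
    (Et18.card_pointLift a v.1).1
  letI := Fintype.ofFinite (Et18.PointLift b η)
  rw [Nat.card_congr e, Nat.card_sigma]
  rw [Finset.sum_congr rfl fun v _ => ((Et18.card_pointLift a v.1).2.1.trans (ha _)), Finset.sum_const,
    Finset.card_univ, ← Nat.card_eq_fintype_card, hcb, hb, smul_eq_mul]

/-- A finite étale morphism of constant degree `d` has, over a finite étale cover of degree `d!`,
`d` lifts which are distinct at every geometric point. -/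
theorem exists_splitting : ∀ (d : ℕ) (X S : Scheme.{u}) (φ : X ⟶ S) [IsFinite φ] [Etale φ],
    (∀ s, φ.finrank s = d) →
    ∃ (T : Scheme.{u}) (τ : T ⟶ S) (_ : IsFinite τ) (_ : Etale τ), (∀ s, τ.finrank s = d.factorial) ∧
      ∃ σ : Fin d → (T ⟶ X), (∀ i, σ i ≫ φ = τ) ∧
        ∀ (Ω : Type u) [Field Ω] [IsSepClosed Ω] (η : Spec (CommRingCat.of Ω) ⟶ T),
          Function.Injective fun i => η ≫ σ i := by
  intro d
  induction d with
  | zero =>
    intro X S φ _ _ _
    exact ⟨S, 𝟙 S, inferInstance, inferInstance,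
      fun s => congrFun (Scheme.Hom.finrank_eq_one_of_isIso (𝟙 S)) s,
      fun i => i.elim0, fun i => i.elim0, fun Ω _ _ η i => i.elim0⟩
  | succ d ih =>
    intro X S φ _ _ hd
    let Z := pullback φ φ
    let p : Z ⟶ X := pullback.fst φ φ
    let q : Z ⟶ X := pullback.snd φ φ
    haveI : IsFinite p := MorphismProperty.pullback_fst _ _ inferInstance
    haveI : Etale p := MorphismProperty.pullback_fst _ _ inferInstance
    let Δ : X ⟶ Z := pullback.diagonal φ
    have hΔp : Δ ≫ p = 𝟙 _ := pullback.diagonal_fst φ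
    have hΔq : Δ ≫ q = 𝟙 _ := pullback.diagonal_snd φ
    let U : Z.Opens := Δ.opensRange
    let V : Z.Opens := ⟨(U : Set Z)ᶜ, (Δ.isClosedEmbedding.isClosed_range).isOpen_compl⟩
    haveI : IsClosedImmersion V.ι := IsClosedImmersion.of_isPreimmersion V.ι
      (by rw [Scheme.Opens.range_ι]; exact U.isOpen.isClosed_compl)
    have hdV : ∀ y, (V.ι ≫ p).finrank y = d := by
      intro y
      refine finrank_eq_of_card (V.ι ≫ p) (fun Ω _ _ η => ?_) y
      obtain ⟨hfp, hcp, -⟩ := Et18.card_pointLift p η
      rw [Scheme.Hom.finrank_pullback_fst, hd] at hcp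
      let f : Option (Et18.PointLift (V.ι ≫ p) η) → Et18.PointLift p η := fun o =>
        o.elim ⟨η ≫ Δ, by rw [Category.assoc, hΔp, Category.comp_id]⟩
          fun v => ⟨v.1 ≫ V.ι, by rw [Category.assoc]; exact v.2⟩
      have hne : ∀ v : Et18.PointLift (V.ι ≫ p) η, η ≫ Δ ≠ v.1 ≫ V.ι := fun v h => by
        have h1 : Δ (η (IsLocalRing.closedPoint Ω)) = V.ι (v.1 (IsLocalRing.closedPoint Ω)) := by
          rw [← Scheme.Hom.comp_apply, ← Scheme.Hom.comp_apply, h]
        have h2 : V.ι (v.1 (IsLocalRing.closedPoint Ω)) ∈ V := (v.1 (IsLocalRing.closedPoint Ω)).2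
        exact h2 (h1 ▸ ⟨_, rfl⟩)
      have hf : Function.Bijective f := by
        constructor
        · rintro (_ | v) (_ | w) h
          · rfl
          · exact absurd (congrArg Subtype.val h) (hne w)
          · exact absurd (congrArg Subtype.val h).symm (hne v)
          · exact congrArg some (Subtype.ext ((cancel_mono V.ι).1 (congrArg Subtype.val h)))
        · intro w
          by_cases hw : w.1 (IsLocalRing.closedPoint Ω) ∈ U
          · refine ⟨none, Subtype.ext ?_⟩
            have hr : Set.range w.1 ⊆ Set.range Δ := by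
              rintro _ ⟨x, rfl⟩
              rw [Subsingleton.elim x (IsLocalRing.closedPoint Ω)]
              exact hw
            have h1 := IsOpenImmersion.lift_fac Δ w.1 hr
            have h2 := congrArg (· ≫ p) h1
            simp only [Category.assoc, hΔp, Category.comp_id, w.2] at h2
            show η ≫ Δ = w.1
            exact (congrArg (· ≫ Δ) h2.symm).trans h1
          · have hr : Set.range w.1 ⊆ Set.range V.ι := by
              rintro _ ⟨x, rfl⟩
              rw [Subsingleton.elim x (IsLocalRing.closedPoint Ω), Scheme.Opens.range_ι]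
              exact hw
            exact ⟨some ⟨IsOpenImmersion.lift V.ι w.1 hr, by
              rw [← Category.assoc, IsOpenImmersion.lift_fac, w.2]⟩, Subtype.ext (IsOpenImmersion.lift_fac _ _ _)⟩
      haveI := (Et18.card_pointLift (V.ι ≫ p) η).1
      have h3 := Nat.card_eq_of_bijective f hf
      rw [Finite.card_option, hcp] at h3
      omega
    obtain ⟨T, τ, _, _, hτ, σ, hσ, hinj⟩ := ih V.toScheme X (V.ι ≫ p) hdV
    refine ⟨T, τ ≫ φ, inferInstance, inferInstance, fun s => by
        rw [finrank_comp_of_const τ φ hτ hd, Nat.factorial_succ],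
      Fin.cons τ fun i => σ i ≫ V.ι ≫ q, fun i => ?_, ?_⟩
    · induction i using Fin.cases with
      | zero => rfl
      | succ i =>
        rw [Fin.cons_succ, Category.assoc, Category.assoc, ← pullback.condition, ← hσ i]
        simp only [Category.assoc, p]
    · intro Ω _ _ η
      have hne : ∀ i, η ≫ τ ≠ η ≫ σ i ≫ V.ι ≫ q := fun i h => by
        have hw : η ≫ σ i ≫ V.ι = η ≫ τ ≫ Δ := by
          refine pullback.hom_ext ?_ ?_
          · change (η ≫ σ i ≫ V.ι) ≫ p = (η ≫ τ ≫ Δ) ≫ p
            rw [Category.assoc, Category.assoc, Category.assoc, Category.assoc, hΔp, Category.comp_id, hσ i]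
          · change (η ≫ σ i ≫ V.ι) ≫ q = (η ≫ τ ≫ Δ) ≫ q
            rw [Category.assoc, Category.assoc, Category.assoc, Category.assoc, hΔq, Category.comp_id]
            exact h.symm
        have h1 := congrArg (fun a => a (IsLocalRing.closedPoint Ω)) hw
        simp only [Scheme.Hom.comp_apply] at h1
        have h2 : V.ι (σ i (η (IsLocalRing.closedPoint Ω))) ∈ V := (σ i (η (IsLocalRing.closedPoint Ω))).2
        exact h2 (h1 ▸ ⟨_, rfl⟩)
      intro i j h
      induction i using Fin.cases with
      | zero =>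
        induction j using Fin.cases with
        | zero => rfl
        | succ j => exact absurd h (hne j)
      | succ i =>
        induction j using Fin.cases with
        | zero => exact absurd h.symm (hne i)
        | succ j =>
          refine congrArg Fin.succ (hinj Ω η ?_)
          refine (cancel_mono V.ι).1 (pullback.hom_ext ?_ ?_)
          · change ((η ≫ σ i) ≫ V.ι) ≫ p = ((η ≫ σ j) ≫ V.ι) ≫ p
            rw [Category.assoc, Category.assoc, Category.assoc, Category.assoc, hσ i, hσ j]
          · simpa [q] using h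

/-- Lifts distinct at every geometric point, as many as the degree, trivialise the pullback. -/
theorem exists_iso_sigma (φ : X ⟶ S) [IsFinite φ] [Etale φ] (τ : T ⟶ S) {d : ℕ} (hd : ∀ s, φ.finrank s = d)
    (σ : Fin d → (T ⟶ X)) (hσ : ∀ i, σ i ≫ φ = τ)
    (hinj : ∀ (Ω : Type u) [Field Ω] [IsSepClosed Ω] (η : Spec (CommRingCat.of Ω) ⟶ T),
      Function.Injective fun i => η ≫ σ i) :
    ∃ e : pullback φ τ ≅ ∐ fun _ : Fin d => T,
      ∀ i, Sigma.ι (fun _ : Fin d => T) i ≫ e.inv ≫ pullback.snd φ τ = 𝟙 T := by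
  let p := pullback.snd φ τ
  haveI : IsFinite p := MorphismProperty.pullback_snd _ _ inferInstance
  haveI : Etale p := MorphismProperty.pullback_snd _ _ inferInstance
  let s : Fin d → (T ⟶ pullback φ τ) := fun i => pullback.lift (σ i) (𝟙 T) (by rw [hσ, Category.id_comp])
  have hs : ∀ i, s i ≫ p = 𝟙 T := fun i => pullback.lift_snd _ _ _
  haveI : ∀ i, IsOpenImmersion (s i) := fun i => FEtSect.isOpenImmersion_sect (p := p) ⟨s i, hs i⟩
  have hfib : ∀ (Ω : Type u) [Field Ω] [IsSepClosed Ω] (η : Spec (CommRingCat.of Ω) ⟶ T),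
      Function.Injective fun i => η ≫ s i := fun Ω _ _ η i j h => hinj Ω η (by
    have h2 := congrArg (· ≫ pullback.fst φ τ) h
    simpa only [s, Category.assoc, pullback.lift_fst] using h2)
  obtain ⟨hcol⟩ := nonempty_isColimit_cofanMk_of (X := fun _ : Fin d => T) s (by
      refine eq_top_iff.2 fun z _ => ?_
      obtain ⟨Ω, _, _, ζ, hζ⟩ := FEtSect.exists_geomPoint z
      obtain ⟨hf, hc, -⟩ := Et18.card_pointLift p (ζ ≫ p)
      haveI := hf
      let ev : Fin d → Et18.PointLift p (ζ ≫ p) := fun i =>
        ⟨(ζ ≫ p) ≫ s i, by rw [Category.assoc, hs, Category.comp_id]⟩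
      have hev : Function.Injective ev := fun i j h => hfib Ω (ζ ≫ p) (congrArg Subtype.val h)
      have hb := hev.bijective_of_nat_card_le (by
        rw [hc, Scheme.Hom.finrank_pullback_snd, hd, Nat.card_eq_fintype_card, Fintype.card_fin])
      obtain ⟨i, hi⟩ := hb.2 ⟨ζ, rfl⟩
      refine Opens.mem_iSup.2 ⟨i, (ζ ≫ p) (IsLocalRing.closedPoint Ω), ?_⟩
      rw [← Scheme.Hom.comp_apply, show (ζ ≫ p) ≫ s i = ζ from congrArg Subtype.val hi]
      exact hζ _) (by
      intro i j hij
      rw [Function.onFun, disjoint_iff]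
      refine Opens.ext (Set.eq_empty_iff_forall_notMem.2 ?_)
      rintro z ⟨⟨a, ha⟩, ⟨b, hb⟩⟩
      have ha' : p z = a := by rw [← ha, ← Scheme.Hom.comp_apply, hs]; rfl
      have hb' : p z = b := by rw [← hb, ← Scheme.Hom.comp_apply, hs]; rfl
      subst ha'; subst hb'
      obtain ⟨Ω, _, _, η, hη⟩ := FEtSect.exists_geomPoint (p z)
      have hr : Set.range (η ≫ s j) ⊆ Set.range (s i) := by
        rintro _ ⟨x, rfl⟩
        exact ⟨p z, by rw [Scheme.Hom.comp_apply, hη x, hb, ha]⟩
      have h1 := IsOpenImmersion.lift_fac (s i) (η ≫ s j) hr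
      have h2 := congrArg (· ≫ p) h1
      simp only [Category.assoc, hs, Category.comp_id] at h2
      exact hij (hfib Ω η ((congrArg (· ≫ s i) h2.symm).trans h1)))
  refine ⟨hcol.coconePointUniqueUpToIso (colimit.isColimit _), fun i => ?_⟩
  have h4 : s i ≫ (hcol.coconePointUniqueUpToIso (colimit.isColimit _)).hom = Sigma.ι (fun _ : Fin d => T) i :=
    hcol.comp_coconePointUniqueUpToIso_hom (colimit.isColimit _) ⟨i⟩
  rw [← h4]
  simp only [Category.assoc, Iso.hom_inv_id_assoc]
  exact hs i

end Groth.Agent.Split8
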