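import Groth.Agent.Props12.FinLocFree
import Groth.Agent.DQCoh.ResDescent
import Groth.Agent.AmpleLib.Relative
import Mathlib.AlgebraicGeometry.Morphisms.FlatRank

/-!
# The rank of a finite locally free morphism and of its direct image
-/

set_option autoImplicit false
set_option linter.style.haveILetI false
set_option backward.isDefEq.respectTransparency.types false

universe u

open CategoryTheory CategoryTheory.Limits AlgebraicGeometry Opposite TopologicalSpace

namespace Groth.Agent.Split8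

variable {X Y : Scheme.{u}}

/-- A free direct image over an open determines the rank. -/
theorem finrank_eq_of_free (g : X ⟶ Y) [IsFinite g] [Flat g] {U : Y.Opens} {n : ℕ}
    (e : ((Coh.push g).obj (Coh.structureModule X)).restrict U.ι ≅ FlatMod.freeMod U.toScheme n) {y : Y} (hy : y ∈ U) :
    g.finrank y = n := by
  obtain ⟨W, hW, hyW, hWU⟩ := exists_isAffineOpen_mem_and_subset (x := y) (U := U) hy
  obtain ⟨b⟩ := Props12.exists_basis_sections e hWU
  have : Nonempty W := ⟨⟨y, hyW⟩⟩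
  have hV : IsAffineOpen (g ⁻¹ᵁ W) := hW.preimage g
  have sq : IsPullback hV.fromSpec (Spec.map (g.app W)) g hW.fromSpec := by
    refine (IsOpenImmersion.isPullback _ _ _ _ ?_ ?_).flip
    · rw [← IsAffineOpen.SpecMap_appLE_fromSpec g hW hV le_rfl, Scheme.Hom.app_eq_appLE]
    · rw [hW.opensRange_fromSpec, hV.opensRange_fromSpec]
  letI := (g.app W).hom.toAlgebra
  haveI : Module.Finite Γ(Y, W) Γ(X, g ⁻¹ᵁ W) := IsFinite.finite_app g W hW
  have hfl : Flat (Spec.map (g.app W)) := MorphismProperty.of_isPullback (P := @Flat) sq ‹Flat g›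
  haveI : Module.Flat Γ(Y, W) Γ(X, g ⁻¹ᵁ W) := (RingHom.flat_algebraMap_iff).1 (Flat.SpecMap_iff.1 hfl)
  let b' : Module.Basis (Fin n) Γ(Y, W) Γ(X, g ⁻¹ᵁ W) :=
    b.map { toFun := fun x => x, invFun := fun x => x, map_add' := fun _ _ => rfl, map_smul' := fun _ _ => rfl }
  haveI : Module.Free Γ(Y, W) Γ(X, g ⁻¹ᵁ W) := Module.Free.of_basis b'
  have hp : hW.fromSpec (hW.primeIdealOf ⟨y, hyW⟩) = y := hW.fromSpec_primeIdealOf _
  haveI : Nontrivial Γ(Y, W) := by
    refine ⟨⟨0, 1, fun h => (hW.primeIdealOf ⟨y, hyW⟩).isPrime.ne_top ((Ideal.eq_top_iff_one _).2 ?_)⟩⟩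
    rw [← h]
    exact Ideal.zero_mem _
  rw [← hp, ← Scheme.Hom.finrank_of_isPullback _ _ _ _ sq]
  refine (Scheme.Hom.finrank_SpecMap_algebraMap Γ(Y, W) Γ(X, g ⁻¹ᵁ W) _).trans ?_
  rw [Module.rankAtStalk_eq_finrank_of_free]
  show Module.finrank Γ(Y, W) Γ(X, g ⁻¹ᵁ W) = _
  rw [Module.finrank_eq_card_basis b', Fintype.card_fin]

/-- Constant rank makes the direct image of the structure module free of that rank locally. -/
theorem isFinLocFreeOfRank_push_of_finrank (g : X ⟶ Y) [IsFinite g] [Flat g] [LocallyOfFinitePresentation g]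
    {n : ℕ} (h : ∀ y, g.finrank y = n) :
    FlatMod.IsFinLocFreeOfRank n ((Coh.push g).obj (Coh.structureModule X)) := fun y => by
  have hO : FlatMod.IsFinLocFree (Coh.structureModule X) := fun x =>
    let ⟨U, hx, e⟩ := PicLib.isFinLocFreeOfRank_one AmpleLib.isInvertible_structureModule x; ⟨U, 1, hx, e⟩
  obtain ⟨U, m, hy, ⟨e⟩⟩ := DQCoh.isFinLocFree_push (f := g) ⟨inferInstance, inferInstance, inferInstance⟩ hO y
  obtain rfl : m = n := (finrank_eq_of_free g e hy).symm.trans (h y)
  exact ⟨U, hy, ⟨e⟩⟩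

end Groth.Agent.Split8
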